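import Cfsg.Agent.Helper28.HENO.OrbData

set_option autoImplicit false

namespace Cfsg.Agent.Helper28.HENO

theorem orb1_0 : Cfsg.Agent.Helper28.ptChunk (Cfsg.Agent.Helper28.orbPt Cfsg.Agent.Helper28.HEN.T 8330 Cfsg.Agent.Helper28.HEN.subL 720 ov1 op1 otp1 otw1) 720 256 0 = true := by decide +kernel

theorem orb1_1 : Cfsg.Agent.Helper28.ptChunk (Cfsg.Agent.Helper28.orbPt Cfsg.Agent.Helper28.HEN.T 8330 Cfsg.Agent.Helper28.HEN.subL 720 ov1 op1 otp1 otw1) 720 256 1 = true := by decide +kernel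

theorem orb1_2 : Cfsg.Agent.Helper28.ptChunk (Cfsg.Agent.Helper28.orbPt Cfsg.Agent.Helper28.HEN.T 8330 Cfsg.Agent.Helper28.HEN.subL 720 ov1 op1 otp1 otw1) 720 256 2 = true := by decide +kernel

end Cfsg.Agent.Helper28.HENO
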