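import Cfsg.Agent.Helper28.HENO.OrbData

set_option autoImplicit false

namespace Cfsg.Agent.Helper28.HENO

theorem orb3_8 : Cfsg.Agent.Helper28.ptChunk (Cfsg.Agent.Helper28.orbPt Cfsg.Agent.Helper28.HEN.T 8330 Cfsg.Agent.Helper28.HEN.subL 4480 ov3 op3 otp3 otw3) 4480 256 8 = true := by decide +kernel

theorem orb3_9 : Cfsg.Agent.Helper28.ptChunk (Cfsg.Agent.Helper28.orbPt Cfsg.Agent.Helper28.HEN.T 8330 Cfsg.Agent.Helper28.HEN.subL 4480 ov3 op3 otp3 otw3) 4480 256 9 = true := by decide +kernel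

theorem orb3_10 : Cfsg.Agent.Helper28.ptChunk (Cfsg.Agent.Helper28.orbPt Cfsg.Agent.Helper28.HEN.T 8330 Cfsg.Agent.Helper28.HEN.subL 4480 ov3 op3 otp3 otw3) 4480 256 10 = true := by decide +kernel

theorem orb3_11 : Cfsg.Agent.Helper28.ptChunk (Cfsg.Agent.Helper28.orbPt Cfsg.Agent.Helper28.HEN.T 8330 Cfsg.Agent.Helper28.HEN.subL 4480 ov3 op3 otp3 otw3) 4480 256 11 = true := by decide +kernel

theorem orb3_12 : Cfsg.Agent.Helper28.ptChunk (Cfsg.Agent.Helper28.orbPt Cfsg.Agent.Helper28.HEN.T 8330 Cfsg.Agent.Helper28.HEN.subL 4480 ov3 op3 otp3 otw3) 4480 256 12 = true := by decide +kernel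

theorem orb3_13 : Cfsg.Agent.Helper28.ptChunk (Cfsg.Agent.Helper28.orbPt Cfsg.Agent.Helper28.HEN.T 8330 Cfsg.Agent.Helper28.HEN.subL 4480 ov3 op3 otp3 otw3) 4480 256 13 = true := by decide +kernel

theorem orb3_14 : Cfsg.Agent.Helper28.ptChunk (Cfsg.Agent.Helper28.orbPt Cfsg.Agent.Helper28.HEN.T 8330 Cfsg.Agent.Helper28.HEN.subL 4480 ov3 op3 otp3 otw3) 4480 256 14 = true := by decide +kernel

theorem orb3_15 : Cfsg.Agent.Helper28.ptChunk (Cfsg.Agent.Helper28.orbPt Cfsg.Agent.Helper28.HEN.T 8330 Cfsg.Agent.Helper28.HEN.subL 4480 ov3 op3 otp3 otw3) 4480 256 15 = true := by decide +kernel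

end Cfsg.Agent.Helper28.HENO
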