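import Cfsg.Agent.Helper28.TCO
import Cfsg.Agent.Helper28.HEN.Cert
import Cfsg.Agent.Helper28.HENO.Orb1_0
import Cfsg.Agent.Helper28.HENO.Orb2_0
import Cfsg.Agent.Helper28.HENO.Orb3_0
import Cfsg.Agent.Helper28.HENO.Orb3_1
import Cfsg.Agent.Helper28.HENO.Orb3_2
import Cfsg.Agent.Helper28.HENO.Orb4_0
import Cfsg.Agent.Helper28.HENO.Orb5_0
import Cfsg.Agent.Helper28.HENO.Orb6_0

set_option autoImplicit false

namespace Cfsg.Agent.Helper28.HENO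

theorem orb1_all : ∀ t, t < 720 → Cfsg.Agent.Helper28.orbPt Cfsg.Agent.Helper28.HEN.T 8330 Cfsg.Agent.Helper28.HEN.subL 720 ov1 op1 otp1 otw1 t = true :=
  Cfsg.Agent.Helper28.pts_of_chunks _ 720 256 3 (by decide) (by decide)
    (Cfsg.Agent.Helper28.allLt_succ _ 2 (Cfsg.Agent.Helper28.allLt_succ _ 1 (Cfsg.Agent.Helper28.allLt_succ _ 0 (Cfsg.Agent.Helper28.allLt_zero _) orb1_0) orb1_1) orb1_2)

theorem ov1_lt : ov1 0 < 8330 := by decide +kernel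

theorem orb2_all : ∀ t, t < 1344 → Cfsg.Agent.Helper28.orbPt Cfsg.Agent.Helper28.HEN.T 8330 Cfsg.Agent.Helper28.HEN.subL 1344 ov2 op2 otp2 otw2 t = true :=
  Cfsg.Agent.Helper28.pts_of_chunks _ 1344 256 6 (by decide) (by decide)
    (Cfsg.Agent.Helper28.allLt_succ _ 5 (Cfsg.Agent.Helper28.allLt_succ _ 4 (Cfsg.Agent.Helper28.allLt_succ _ 3 (Cfsg.Agent.Helper28.allLt_succ _ 2 (Cfsg.Agent.Helper28.allLt_succ _ 1 (Cfsg.Agent.Helper28.allLt_succ _ 0 (Cfsg.Agent.Helper28.allLt_zero _) orb2_0) orb2_1) orb2_2) orb2_3) orb2_4) orb2_5)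

theorem ov2_lt : ov2 0 < 8330 := by decide +kernel

theorem orb3_all : ∀ t, t < 4480 → Cfsg.Agent.Helper28.orbPt Cfsg.Agent.Helper28.HEN.T 8330 Cfsg.Agent.Helper28.HEN.subL 4480 ov3 op3 otp3 otw3 t = true :=
  Cfsg.Agent.Helper28.pts_of_chunks _ 4480 256 18 (by decide) (by decide)
    (Cfsg.Agent.Helper28.allLt_succ _ 17 (Cfsg.Agent.Helper28.allLt_succ _ 16 (Cfsg.Agent.Helper28.allLt_succ _ 15 (Cfsg.Agent.Helper28.allLt_succ _ 14 (Cfsg.Agent.Helper28.allLt_succ _ 13 (Cfsg.Agent.Helper28.allLt_succ _ 12 (Cfsg.Agent.Helper28.allLt_succ _ 11 (Cfsg.Agent.Helper28.allLt_succ _ 10 (Cfsg.Agent.Helper28.allLt_succ _ 9 (Cfsg.Agent.Helper28.allLt_succ _ 8 (Cfsg.Agent.Helper28.allLt_succ _ 7 (Cfsg.Agent.Helper28.allLt_succ _ 6 (Cfsg.Agent.Helper28.allLt_succ _ 5 (Cfsg.Agent.Helper28.allLt_succ _ 4 (Cfsg.Agent.Helper28.allLt_succ _ 3 (Cfsg.Agent.Helper28.allLt_succ _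 2 (Cfsg.Agent.Helper28.allLt_succ _ 1 (Cfsg.Agent.Helper28.allLt_succ _ 0 (Cfsg.Agent.Helper28.allLt_zero _) orb3_0) orb3_1) orb3_2) orb3_3) orb3_4) orb3_5) orb3_6) orb3_7) orb3_8) orb3_9) orb3_10) orb3_11) orb3_12) orb3_13) orb3_14) orb3_15) orb3_16) orb3_17)

theorem ov3_lt : ov3 0 < 8330 := by decide +kernel

theorem orb4_all : ∀ t, t < 105 → Cfsg.Agent.Helper28.orbPt Cfsg.Agent.Helper28.HEN.T 8330 Cfsg.Agent.Helper28.HEN.subL 105 ov4 op4 otp4 otw4 t = true :=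
  Cfsg.Agent.Helper28.pts_of_chunks _ 105 256 1 (by decide) (by decide)
    (Cfsg.Agent.Helper28.allLt_succ _ 0 (Cfsg.Agent.Helper28.allLt_zero _) orb4_0)

theorem ov4_lt : ov4 0 < 8330 := by decide +kernel

theorem orb5_all : ∀ t, t < 840 → Cfsg.Agent.Helper28.orbPt Cfsg.Agent.Helper28.HEN.T 8330 Cfsg.Agent.Helper28.HEN.subL 840 ov5 op5 otp5 otw5 t = true :=
  Cfsg.Agent.Helper28.pts_of_chunks _ 840 256 4 (by decide) (by decide)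
    (Cfsg.Agent.Helper28.allLt_succ _ 3 (Cfsg.Agent.Helper28.allLt_succ _ 2 (Cfsg.Agent.Helper28.allLt_succ _ 1 (Cfsg.Agent.Helper28.allLt_succ _ 0 (Cfsg.Agent.Helper28.allLt_zero _) orb5_0) orb5_1) orb5_2) orb5_3)

theorem ov5_lt : ov5 0 < 8330 := by decide +kernel

theorem orb6_all : ∀ t, t < 840 → Cfsg.Agent.Helper28.orbPt Cfsg.Agent.Helper28.HEN.T 8330 Cfsg.Agent.Helper28.HEN.subL 840 ov6 op6 otp6 otw6 t = true :=
  Cfsg.Agent.Helper28.pts_of_chunks _ 840 256 4 (by decide) (by decide)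
    (Cfsg.Agent.Helper28.allLt_succ _ 3 (Cfsg.Agent.Helper28.allLt_succ _ 2 (Cfsg.Agent.Helper28.allLt_succ _ 1 (Cfsg.Agent.Helper28.allLt_succ _ 0 (Cfsg.Agent.Helper28.allLt_zero _) orb6_0) orb6_1) orb6_2) orb6_3)

theorem ov6_lt : ov6 0 < 8330 := by decide +kernel

end Cfsg.Agent.Helper28.HENO
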